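import Mathlib

/-!
Permutations in which every moved point has the same period.
-/

set_option autoImplicit false

namespace Cfsg.Agent.Lib.Spec48

open Equiv Equiv.Perm

theorem cycleType_of_period {α : Type*} [Fintype α] [DecidableEq α] (σ : Perm α) (N : ℕ)
    (hN : σ ^ N = 1) (hper : ∀ x, σ x ≠ x → ∀ i : ℕ, (σ ^ i) x = x → N ∣ i) :
    ∀ n ∈ σ.cycleType, n = N := by
  intro n hn
  rw [cycleType_def, Multiset.mem_map] at hn
  obtain ⟨c, hc, rfl⟩ := hn
  obtain ⟨hcyc, hagree⟩ := mem_cycleFactorsFinset_iff.1 hc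
  obtain ⟨x, hx⟩ := hcyc.nonempty_support
  have hsx : σ x ≠ x := by rw [← hagree x hx]; exact mem_support.1 hx
  have hcx : c = σ.cycleOf x := cycle_is_cycleOf hx hc
  show c.support.card = N
  rw [← hcyc.orderOf]
  have hdvd : orderOf c ∣ N := by
    apply orderOf_dvd_of_pow_eq_one
    rw [hcyc.pow_eq_one_iff]
    refine ⟨x, mem_support.1 hx, ?_⟩
    rw [hcx, cycleOf_pow_apply_self, hN]
    rfl
  refine Nat.dvd_antisymm hdvd (hper x hsx _ ?_)
  rw [← cycleOf_pow_apply_self, ← hcx, pow_orderOf_eq_one]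
  rfl

theorem sign_and_support_of_period {α : Type*} [Fintype α] [DecidableEq α] (σ : Perm α) {N : ℕ}
    (hN : σ ^ N = 1) (hper : ∀ x, σ x ≠ x → ∀ i : ℕ, (σ ^ i) x = x → N ∣ i) :
    N ∣ σ.support.card ∧ (Even N → 0 < N → sign σ = (-1) ^ (σ.support.card / N)) := by
  have hrep : σ.cycleType = Multiset.replicate σ.cycleType.card N :=
    Multiset.eq_replicate.2 ⟨rfl, cycleType_of_period σ N hN hper⟩
  have hsum : σ.support.card = σ.cycleType.card * N := by
    rw [← sum_cycleType]
    conv_lhs => rw [hrep]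
    rw [Multiset.sum_replicate, smul_eq_mul]
  refine ⟨⟨_, by rw [hsum, mul_comm]⟩, fun he hpos => ?_⟩
  rw [sign_of_cycleType, sum_cycleType, hsum, Nat.mul_div_cancel _ hpos, pow_add]
  rw [Even.neg_one_pow (he.mul_left _), one_mul]

/-- A set on which a permutation acts without short orbits has size divisible by the period. -/
theorem dvd_card_of_free {α : Type*} [Finite α] (σ : Perm α) {N : ℕ} (hN1 : 1 < N)
    (hN : σ ^ N = 1) (hfree : ∀ x, ∀ i : ℕ, (σ ^ i) x = x → N ∣ i) : N ∣ Nat.card α := by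
  classical
  have := Fintype.ofFinite α
  have hs : σ.support = Finset.univ := by
    rw [Finset.eq_univ_iff_forall]
    intro x
    rw [mem_support]
    intro h
    have h1 := Nat.le_of_dvd one_pos (hfree x 1 (by rw [pow_one]; exact h))
    omega
  have := (sign_and_support_of_period σ hN fun x _ => hfree x).1
  rwa [hs, Finset.card_univ, ← Nat.card_eq_fintype_card] at this

end Cfsg.Agent.Lib.Spec48
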