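import Mathlib

/-!
An isometry `T` of prime order acting irreducibly on a finite orthogonal space of dimension `2k`,
where the order divides `q ^ k + 1`: the centralizer is a field, the adjoint is its `q ^ k`-power,
so the vectors of norm `c` are `q ^ k + 1` times an odd number.
-/

set_option autoImplicit false

namespace Cfsg.Agent.Lib.Spec48

open Module Polynomial

variable {F : Type*} [Field F] {W : Type*} [AddCommGroup W] [Module F W]

/-- `(aeval T f) ^ (q ^ k) = aeval (T ^ (q ^ k)) f`. -/
theorem aeval_pow_card [Fintype F] {A : Type*} [Semiring A] [Algebra F A] (T : A) (f : F[X]) :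
    ∀ k : ℕ, aeval T f ^ (Fintype.card F ^ k) = aeval (T ^ (Fintype.card F ^ k)) f := by
  intro k
  induction k generalizing T with
  | zero => simp
  | succ k ih =>
    rw [pow_succ', pow_mul, ← map_pow, ← FiniteField.expand_card, expand_aeval, ih, ← pow_mul]

/-- Facts about the centralizer of an irreducible operator. -/
theorem centralizer_facts [FiniteDimensional F W] (T : End F W)
    (hirr : ∀ S : Submodule F W, (∀ x ∈ S, T x ∈ S) → S = ⊥ ∨ S = ⊤)
    {w₀ : W} (hw₀ : w₀ ≠ 0) :
    (∀ A : End F W, Commute A T → A ≠ 0 → Function.Injective A) ∧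
      (∀ w : W, ∃ f : F[X], aeval T f w₀ = w) ∧
      (∀ A : End F W, Commute A T → ∃ f : F[X], A = aeval T f) := by
  have hinj : ∀ A : End F W, Commute A T → A ≠ 0 → Function.Injective A := by
    intro A hA hA0
    rw [← LinearMap.ker_eq_bot]
    refine (hirr _ fun x hx => ?_).resolve_right fun h => hA0 (LinearMap.ker_eq_top.1 h)
    rw [LinearMap.mem_ker] at hx ⊢
    rw [← Module.End.mul_apply, hA.eq, Module.End.mul_apply, hx, map_zero]
  have hsurj : ∀ w : W, ∃ f : F[X], aeval T f w₀ = w := by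
    let φ : F[X] →ₗ[F] W := (LinearMap.applyₗ w₀).comp (aeval T).toLinearMap
    rcases hirr (LinearMap.range φ) (by
      rintro _ ⟨f, rfl⟩
      exact ⟨X * f, by simp [φ]⟩) with h | h
    · have h1 : φ 1 ∈ LinearMap.range φ := LinearMap.mem_range_self φ 1
      rw [h, Submodule.mem_bot] at h1
      simp [φ] at h1
      exact absurd h1 hw₀
    · intro w
      have : w ∈ LinearMap.range φ := by rw [h]; trivial
      exact this
  refine ⟨hinj, hsurj, fun A hA => ?_⟩
  obtain ⟨f, hf⟩ := hsurj (A w₀)
  refine ⟨f, ?_⟩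
  by_contra hne
  have hcomm : Commute (A - aeval T f) T := by
    refine hA.sub_left ?_
    have := (Commute.all f X).map (aeval T)
    rwa [aeval_X] at this
  have := hinj _ hcomm (sub_ne_zero.2 hne) (a₁ := w₀) (a₂ := 0)
    (by rw [LinearMap.sub_apply, hf, sub_self, map_zero])
  exact hw₀ this

/-- The centralizer as a subalgebra. -/
abbrev cent (T : End F W) : Subalgebra F (End F W) := Subalgebra.centralizer F {T}

theorem mem_cent {T A : End F W} : A ∈ cent T ↔ Commute A T := by
  rw [Subalgebra.mem_centralizer_iff]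
  simp [Commute, SemiconjBy, eq_comm]

theorem cent_card [FiniteDimensional F W] [Fintype F] (T : End F W)
    (hirr : ∀ S : Submodule F W, (∀ x ∈ S, T x ∈ S) → S = ⊥ ∨ S = ⊤) {w₀ : W} (hw₀ : w₀ ≠ 0) :
    IsField (cent T) ∧ Function.Bijective (fun x : cent T => (x : End F W) w₀) := by
  obtain ⟨hinj, hsurj, hpoly⟩ := centralizer_facts T hirr hw₀
  have hbij : Function.Bijective (fun x : cent T => (x : End F W) w₀) := by
    constructor
    · intro x y hxy
      by_contra hne
      have := hinj ((x : End F W) - y) ((mem_cent.1 x.2).sub_left (mem_cent.1 y.2))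
        (sub_ne_zero.2 fun h => hne (Subtype.ext h)) (a₁ := w₀) (a₂ := 0)
        (by rw [LinearMap.sub_apply, map_zero]; exact sub_eq_zero.2 hxy)
      exact hw₀ this
    · intro w
      obtain ⟨f, hf⟩ := hsurj w
      refine ⟨⟨aeval T f, mem_cent.2 ?_⟩, hf⟩
      have := (Commute.all f X).map (aeval T)
      rwa [aeval_X] at this
  refine ⟨?_, hbij⟩
  have : Nontrivial W := ⟨⟨w₀, 0, hw₀⟩⟩
  refine ⟨exists_pair_ne _, fun x y => Subtype.ext ?_, fun {x} hx => ?_⟩
  · obtain ⟨f, hf⟩ := hpoly x.1 (mem_cent.1 x.2)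
    obtain ⟨g, hg⟩ := hpoly y.1 (mem_cent.1 y.2)
    show x.1 * y.1 = y.1 * x.1
    rw [hf, hg, ← map_mul, mul_comm, map_mul]
  · have hi := hinj x.1 (mem_cent.1 x.2) fun h => hx (Subtype.ext h)
    obtain ⟨u, hu⟩ := (Module.End.isUnit_iff x.1).2 ⟨hi, LinearMap.injective_iff_surjective.1 hi⟩
    refine ⟨⟨(↑u⁻¹ : End F W), mem_cent.2 ?_⟩, Subtype.ext ?_⟩
    · have : Commute (u : End F W) T := hu ▸ mem_cent.1 x.2
      exact this.units_inv_left
    · show x.1 * (↑u⁻¹ : End F W) = 1
      rw [← hu, Units.mul_inv]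

/-- In a cyclic group of order `(Q - 1) * (Q + 1)` the kernel and range of `x ↦ x ^ (Q + 1)`. -/
theorem norm_hom_facts {G : Type*} [CommGroup G] [Finite G] [IsCyclic G] {Q : ℕ} (hQ : 1 < Q)
    (hG : Nat.card G = (Q - 1) * (Q + 1)) :
    Nat.card (powMonoidHom (α := G) (Q + 1)).ker = Q + 1 ∧
      (∀ y : G, y ^ (Q - 1) = 1 → y ∈ (powMonoidHom (α := G) (Q + 1)).range) ∧
      (∀ y : G, y ^ (Q + 1) = 1 → y ∈ (powMonoidHom (α := G) (Q - 1)).range) := by
  have key : ∀ a b : ℕ, Nat.card G = a * b → 0 < a → ∀ y : G, y ^ a = 1 →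
      y ∈ (powMonoidHom (α := G) b).range := by
    intro a b hab ha y hy
    obtain ⟨g, hg⟩ := IsCyclic.exists_generator (α := G)
    obtain ⟨i, rfl⟩ := Subgroup.mem_zpowers_iff.1 (hg y)
    rw [← zpow_natCast, ← zpow_mul, ← orderOf_dvd_iff_zpow_eq_one, orderOf_eq_card_of_forall_mem_zpowers hg,
      hab, Nat.cast_mul, mul_comm i] at hy
    obtain ⟨j, rfl⟩ := Int.dvd_of_mul_dvd_mul_left (by omega) hy
    refine ⟨g ^ j, ?_⟩
    show (g ^ j) ^ b = g ^ ((b : ℤ) * j)
    rw [mul_comm, zpow_mul, zpow_natCast]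
  refine ⟨?_, key _ _ hG (by omega), key _ _ (by rw [hG, mul_comm]) (by omega)⟩
  rw [IsCyclic.card_powMonoidHom_ker, hG]
  exact Nat.gcd_eq_right ⟨Q - 1, mul_comm _ _⟩

variable [FiniteDimensional F W] [Fintype F]

/-- The main facts about the irreducible piece. -/
theorem irreducible_piece (T : End F W)
    (hirr : ∀ S : Submodule F W, (∀ x ∈ S, T x ∈ S) → S = ⊥ ∨ S = ⊤)
    {k : ℕ} (hk : 0 < k) (hdim : finrank F W = 2 * k) (hodd : Odd (Fintype.card F))
    (hT : T ^ (Fintype.card F ^ k + 1) = 1)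
    (B : W →ₗ[F] W →ₗ[F] F) (hsymm : ∀ x y, B x y = B y x) (hiso : ∀ x y, B (T x) (T y) = B x y)
    (hB : ∃ x y, B x y ≠ 0) {c : F} (hc : c ≠ 0) :
    (∃ j, Odd j ∧ Nat.card {w : W // B w w = c} = (Fintype.card F ^ k + 1) * j) ∧
    ∀ S : End F W, Commute S T → S ^ (Fintype.card F ^ k + 1) = 1 → LinearMap.det S = 1 := by
  classical
  obtain ⟨x₁, y₁, hxy⟩ := hB
  obtain ⟨w₀, hw₀⟩ : ∃ w : W, w ≠ 0 := ⟨x₁, fun h => hxy (by rw [h, map_zero, LinearMap.zero_apply])⟩
  obtain ⟨hfield, hbij⟩ := cent_card T hirr hw₀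
  obtain ⟨-, -, hpoly⟩ := centralizer_facts T hirr hw₀
  set q := Fintype.card F
  set Q := q ^ k with hQ
  letI := hfield.toField
  have : Finite W := Module.finite_of_finite F
  have : Finite (cent T) := Finite.of_injective _ hbij.1
  have := Fintype.ofFinite (cent T)
  have hq1 : 1 < q := Fintype.one_lt_card
  have hQ1 : 1 < Q := Nat.one_lt_pow hk.ne' hq1
  have hcardC : Fintype.card (cent T) = Q * Q := by
    rw [← Nat.card_eq_fintype_card, Nat.card_eq_of_bijective _ hbij,
      Module.natCard_eq_pow_finrank (K := F), hdim, Nat.card_eq_fintype_card, hQ, ← pow_add]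
    congr 1
    omega
  have hcardU : Nat.card (cent T)ˣ = (Q - 1) * (Q + 1) := by
    rw [Nat.card_eq_fintype_card, Fintype.card_units, hcardC, mul_comm (Q - 1)]
    have := Nat.sq_sub_sq Q 1
    rw [pow_two, one_pow] at this
    exact this
  have : IsCyclic (cent T)ˣ := inferInstance
  obtain ⟨hker, hrangeP, hrangeM⟩ := norm_hom_facts (G := (cent T)ˣ) hQ1 hcardU
  -- adjoint
  have hadj : ∀ a : cent T, ∀ x y, B ((a : End F W) x) y = B x (((a ^ Q : cent T) : End F W) y) := by
    intro a x y
    obtain ⟨f, hf⟩ := hpoly a.1 (mem_cent.1 a.2)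
    have hTQ : ∀ x y, B (T x) y = B x ((T ^ Q) y) := fun x y => by
      have hy : y = T ((T ^ Q) y) := by
        rw [← Module.End.mul_apply, ← pow_succ', hT, Module.End.one_apply]
      conv_lhs => rw [hy]
      rw [hiso]
    show B (a.1 x) y = B x ((a.1 ^ Q) y)
    rw [hf, aeval_pow_card T f k]
    clear hf
    induction f using Polynomial.induction_on' generalizing x y with
    | add f g hf' hg' => simp only [map_add, LinearMap.add_apply, hf', hg']
    | monomial i c =>
      simp only [aeval_monomial, Module.End.mul_apply, Module.algebraMap_end_apply,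
        map_smul, LinearMap.smul_apply]
      congr 1
      induction i generalizing x y with
      | zero => simp
      | succ i ih =>
        rw [pow_succ, pow_succ', Module.End.mul_apply, Module.End.mul_apply, ih, hTQ]
  have hnorm : ∀ a : cent T, B ((a : End F W) w₀) ((a : End F W) w₀) =
      B w₀ (((a ^ (Q + 1) : cent T) : End F W) w₀) := by
    intro a
    rw [hadj, ← Module.End.mul_apply]
    rfl
  refine ⟨?_, ?_⟩
  · let K₀ : AddSubgroup (cent T) :=
      { carrier := {z | z ^ Q = z}
        add_mem' := fun {a b} ha hb => by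
          obtain ⟨p, hp⟩ := CharP.exists F
          haveI := hp
          obtain ⟨e, hp', he⟩ := FiniteField.card F p
          haveI : Fact p.Prime := ⟨hp'⟩
          haveI : CharP (cent T) p := charP_of_injective_algebraMap (algebraMap F (cent T)).injective p
          show (a + b) ^ Q = a + b
          rw [show Q = p ^ ((e : ℕ) * k) by rw [pow_mul, ← he], add_pow_char_pow, ← show Q = p ^ ((e : ℕ) * k) by rw [pow_mul, ← he]]
          rw [ha, hb]
        zero_mem' := zero_pow (by omega : Q ≠ 0)
        neg_mem' := fun {a} ha => by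
          show (-a) ^ Q = -a
          rw [Odd.neg_pow (by rw [hQ]; exact hodd.pow), ha] }
    let μ : K₀ →+ F :=
      { toFun := fun z => B w₀ ((z.1 : End F W) w₀)
        map_zero' := by simp
        map_add' := fun a b => by simp }
    have hfix : ∀ a : cent T, (a ^ (Q + 1)) ^ Q = a ^ (Q + 1) := by
      intro a
      rw [pow_succ, mul_pow, ← pow_mul, ← hcardC, FiniteField.pow_card, mul_comm]
    obtain ⟨z₁, hz₁⟩ : ∃ z : K₀, μ z = c := by
      obtain ⟨v, hv⟩ : ∃ v, B v v ≠ 0 := by
        by_contra h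
        push Not at h
        have h2 : (2 : F) ≠ 0 := by
          intro h2
          have h2' : ringChar F = 2 := by
            have h' : ((2 : ℕ) : F) = 0 := by exact_mod_cast h2
            exact ((Nat.prime_dvd_prime_iff_eq (CharP.char_is_prime F (ringChar F)) Nat.prime_two).1
              ((ringChar.spec F 2).1 h'))
          exact (Nat.not_even_iff_odd.2 hodd) (Nat.even_iff.2 (FiniteField.even_card_of_char_two h2'))
        have h1 := h (x₁ + y₁)
        rw [map_add, map_add, LinearMap.add_apply, LinearMap.add_apply, h, h, hsymm y₁ x₁,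
          zero_add, add_zero, ← two_mul] at h1
        exact hxy ((mul_eq_zero.1 h1).resolve_left h2)
      obtain ⟨a, rfl⟩ := hbij.2 v
      have hv' : B ((a : End F W) w₀) ((a : End F W) w₀) ≠ 0 := hv
      rw [hnorm] at hv'
      set d := B w₀ (((a ^ (Q + 1) : cent T) : End F W) w₀)
      refine ⟨⟨(c / d) • a ^ (Q + 1), ?_⟩, ?_⟩
      · show ((c / d) • a ^ (Q + 1)) ^ Q = (c / d) • a ^ (Q + 1)
        rw [_root_.smul_pow, hfix, hQ, FiniteField.pow_card_pow]
      · show B w₀ (((c / d) • a ^ (Q + 1) : cent T).1 w₀) = c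
        simp only [Subalgebra.coe_smul, LinearMap.smul_apply, map_smul, smul_eq_mul]
        exact div_mul_cancel₀ c hv'
    refine ⟨Nat.card {z : K₀ // μ z = c}, ?_, ?_⟩
    · have e : μ.ker ≃ {z : K₀ // μ z = c} :=
        { toFun := fun z => ⟨z.1 + z₁, by rw [map_add, (AddMonoidHom.mem_ker).1 z.2, zero_add, hz₁]⟩
          invFun := fun z => ⟨z.1 - z₁, by rw [AddMonoidHom.mem_ker, map_sub, z.2, hz₁, sub_self]⟩
          left_inv := fun z => Subtype.ext (add_sub_cancel_right z.1 z₁)
          right_inv := fun z => Subtype.ext (sub_add_cancel z.1 z₁) }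
      rw [← Nat.card_congr e]
      have hd : Nat.card μ.ker ∣ Fintype.card (cent T) := by
        rw [← Nat.card_eq_fintype_card]
        exact (AddSubgroup.card_addSubgroup_dvd_card μ.ker).trans (AddSubgroup.card_addSubgroup_dvd_card K₀)
      rw [hcardC] at hd
      exact Odd.of_dvd_nat ((hodd.pow).mul (hodd.pow)) hd
    · let ν : (cent T)ˣ →* (cent T)ˣ := powMonoidHom (Q + 1)
      have hμ0 : ∀ z : K₀, μ z = c → (z : cent T) ≠ 0 := fun z hz h => hc (by
        rw [← hz]; show B w₀ ((z.1 : End F W) w₀) = 0; rw [h]; simp)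
      have hsol : ∀ z : {z : K₀ // μ z = c}, ∃ a : (cent T)ˣ, ((a : cent T)) ^ (Q + 1) = z.1.1 := by
        intro z
        obtain ⟨a, ha⟩ := hrangeP (Units.mk0 z.1.1 (hμ0 _ z.2)) (by
          apply Units.ext
          rw [Units.val_pow_eq_pow_val, Units.val_mk0, Units.val_one]
          apply mul_right_cancel₀ (hμ0 _ z.2)
          rw [← pow_succ, Nat.sub_add_cancel hQ1.le, one_mul]
          exact z.1.2)
        exact ⟨a, by simpa using congrArg Units.val ha⟩
      choose g hg using hsol
      let Φ : {z : K₀ // μ z = c} × ν.ker → {w : W // B w w = c} := fun p =>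
        ⟨((((g p.1) * p.2.1 : (cent T)ˣ) : cent T) : End F W) w₀, by
          rw [hnorm]
          have hk2 : ((p.2.1 : cent T)) ^ (Q + 1) = 1 := by
            simpa [ν] using congrArg Units.val (MonoidHom.mem_ker.1 p.2.2)
          rw [Units.val_mul, mul_pow, hk2, mul_one, hg]
          exact p.1.2⟩
      have hΦ : Function.Bijective Φ := by
        constructor
        · rintro ⟨z, u⟩ ⟨z', u'⟩ h
          have h1 : ((g z * u.1 : (cent T)ˣ) : cent T) = ((g z' * u'.1 : (cent T)ˣ) : cent T) :=
            hbij.1 (congrArg Subtype.val h)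
          have h2 := congrArg (· ^ (Q + 1)) h1
          have hu : ∀ u : ν.ker, ((u.1 : cent T)) ^ (Q + 1) = 1 := fun u => by
            simpa [ν] using congrArg Units.val (MonoidHom.mem_ker.1 u.2)
          simp only [Units.val_mul, mul_pow, hu, mul_one, hg] at h2
          obtain rfl : z = z' := Subtype.ext (Subtype.ext h2)
          have h3 : u.1 = u'.1 := mul_left_cancel (Units.ext h1)
          exact Prod.ext rfl (Subtype.ext h3)
        · rintro ⟨w, hw⟩
          obtain ⟨a, rfl⟩ := hbij.2 w
          have hw' : B ((a : End F W) w₀) ((a : End F W) w₀) = c := hw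
          rw [hnorm] at hw'
          have ha0 : a ≠ 0 := fun h => hc (by
            rw [← hw', h, zero_pow (Nat.succ_ne_zero Q)]; simp)
          let z : {z : K₀ // μ z = c} := ⟨⟨a ^ (Q + 1), hfix a⟩, hw'⟩
          refine ⟨⟨z, ⟨(g z)⁻¹ * Units.mk0 a ha0, ?_⟩⟩, ?_⟩
          · rw [MonoidHom.mem_ker]
            show ((g z)⁻¹ * Units.mk0 a ha0) ^ (Q + 1) = 1
            rw [mul_pow, inv_pow, inv_mul_eq_one]
            apply Units.ext
            simp only [Units.val_pow_eq_pow_val, Units.val_mk0]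
            exact hg z
          · apply Subtype.ext
            show ((((g z) * ((g z)⁻¹ * Units.mk0 a ha0) : (cent T)ˣ) : cent T) : End F W) w₀ = _
            rw [mul_inv_cancel_left, Units.val_mk0]
      rw [← Nat.card_congr (Equiv.ofBijective Φ hΦ), Nat.card_prod, hker, mul_comm]
  · intro S hS hSN
    set s : cent T := ⟨S, mem_cent.2 hS⟩
    have hsN : s ^ (Q + 1) = 1 := Subtype.ext hSN
    have hs0 : s ≠ 0 := fun h => by
      rw [h, zero_pow (Nat.succ_ne_zero Q)] at hsN
      exact zero_ne_one hsN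
    obtain ⟨z, hz⟩ := hrangeM (Units.mk0 s hs0) (Units.ext (by simpa using hsN))
    have hS' : S = ((z : cent T) : End F W) ^ (Q - 1) := by
      have := congrArg (fun u : (cent T)ˣ => (((u : cent T)) : End F W)) hz
      simpa [s] using this.symm
    have hd0 : LinearMap.det ((z : cent T) : End F W) ≠ 0 := by
      have : IsUnit ((z : cent T) : End F W) := (z.isUnit).map (cent T).val
      exact (this.map LinearMap.det).ne_zero
    obtain ⟨j, hj⟩ : q - 1 ∣ Q - 1 := by
      simpa using Nat.sub_dvd_pow_sub_pow q 1 k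
    rw [hS', map_pow, hj, pow_mul, FiniteField.pow_card_sub_one_eq_one _ hd0, one_pow]

end Cfsg.Agent.Lib.Spec48
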