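import Mathlib

/-!
In a 3-dimensional orthogonal space an element of order prime to p commuting with a non-trivial
unipotent is plus or minus one.
-/

set_option autoImplicit false

namespace Cfsg.Agent.Lib.Spec48

open Module

theorem scalar_of_commute_unipotent {F U : Type*} [Field F] [AddCommGroup U] [Module F U]
    [FiniteDimensional F U] (p : ℕ) [Fact p.Prime] [CharP F p] (h2 : (2 : F) ≠ 0)
    (hdim : finrank F U = 3) (B : U →ₗ[F] U →ₗ[F] F) (hsymm : ∀ x y, B x y = B y x)
    (hnd : ∀ x, (∀ y, B x y = 0) → x = 0) (A u : End F U)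
    (hAiso : ∀ x y, B (A x) (A y) = B x y) (huiso : ∀ x y, B (u x) (u y) = B x y)
    (hcomm : Commute A u) (hu : u ^ p = 1) (hu1 : u ≠ 1) {N : ℕ} (hN : N.Coprime p)
    (hAN : A ^ N = 1) : ∃ l : F, l * l = 1 ∧ A = l • 1 := by
  have hp : p.Prime := Fact.out
  have hp2 : p ≠ 2 := by
    intro h
    exact h2 (by exact_mod_cast (h ▸ CharP.cast_eq_zero F p : ((2 : ℕ) : F) = 0))
  have hNT : Nontrivial U := Module.nontrivial_of_finrank_eq_succ hdim
  have hch : CharP (End F U) p :=
    charP_of_injective_algebraMap (algebraMap F (End F U)).injective p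
  set M := u - 1 with hM
  have hnil : IsNilpotent M := ⟨p, by
    rw [hM, sub_pow_char_of_commute _ (Commute.one_right u), hu, one_pow, sub_self]⟩
  have hM3 : M ^ 3 = 0 := by
    have h := LinearMap.aeval_self_charpoly M
    rw [IsNilpotent.charpoly_eq_X_pow_finrank hnil, hdim] at h
    simpa using h
  have huM : u = 1 + M := by rw [hM]; abel
  have hM2 : M ^ 2 ≠ 0 := by
    intro h0
    have hMM : ∀ x, M (M x) = 0 := fun x => by
      rw [← Module.End.mul_apply, ← pow_two, h0, LinearMap.zero_apply]
    have hrel : ∀ x y, B (M x) y + B x (M y) + B (M x) (M y) = 0 := fun x y => by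
      have := huiso x y
      simp only [huM, LinearMap.add_apply, Module.End.one_apply, map_add] at this
      linear_combination this
    have hiso : ∀ x y, B (M x) (M y) = 0 := fun x y => by
      have := hrel x (M y)
      rw [hMM, map_zero, map_zero, add_zero, add_zero] at this
      exact this
    have hskew : ∀ x y, B (M x) y + B x (M y) = 0 := fun x y => by
      have := hrel x y
      rwa [hiso, add_zero] at this
    have hdiag : ∀ x, B (M x) x = 0 := fun x => by
      have := hskew x x
      rw [hsymm x (M x), ← two_mul] at this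
      exact (mul_eq_zero.1 this).resolve_left h2
    have hle : LinearMap.range M ≤ LinearMap.ker M := by
      rintro _ ⟨x, rfl⟩
      exact hMM x
    have h3 := Submodule.finrank_mono hle
    have h4 := LinearMap.finrank_range_add_finrank_ker M
    obtain ⟨x₀, hx₀⟩ : ∃ x, M x ≠ 0 := by
      by_contra hc
      push Not at hc
      exact hu1 (by rw [huM, show M = 0 from LinearMap.ext hc, add_zero])
    have hspan : ∀ x, ∃ t : F, M x = t • M x₀ := by
      have hsp : Submodule.span F {M x₀} = LinearMap.range M := by
        refine Submodule.eq_of_le_of_finrank_le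
          ((Submodule.span_singleton_le_iff_mem _ _).2 (LinearMap.mem_range_self M x₀)) ?_
        rw [finrank_span_singleton hx₀]
        omega
      intro x
      have : M x ∈ Submodule.span F {M x₀} := by rw [hsp]; exact LinearMap.mem_range_self M x
      obtain ⟨t, ht⟩ := Submodule.mem_span_singleton.1 this
      exact ⟨t, ht.symm⟩
    refine hx₀ (hnd _ fun y => ?_)
    obtain ⟨t, ht⟩ := hspan y
    rcases eq_or_ne t 0 with rfl | ht0
    · have h5 := hdiag (x₀ + y)
      rw [show M (x₀ + y) = M x₀ by rw [map_add, ht, zero_smul, add_zero], map_add, hdiag,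
        zero_add] at h5
      exact h5
    · have h5 := hdiag y
      rw [ht, map_smul, LinearMap.smul_apply, smul_eq_mul] at h5
      exact (mul_eq_zero.1 h5).resolve_left ht0
  obtain ⟨e, he⟩ : ∃ e, (M ^ 2) e ≠ 0 := by
    by_contra hc
    push Not at hc
    exact hM2 (LinearMap.ext hc)
  have hM3' : ∀ x, M (M (M x)) = 0 := fun x => by
    have := LinearMap.congr_fun hM3 x
    simpa [pow_succ, Module.End.mul_apply] using this
  have hMe2 : M (M e) ≠ 0 := by simpa [pow_two, Module.End.mul_apply] using he
  have hli : LinearIndependent F ![e, M e, M (M e)] := by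
    rw [Fintype.linearIndependent_iff]
    intro g hg
    simp only [Fin.sum_univ_three, Matrix.cons_val_zero, Matrix.cons_val_one, Matrix.cons_val_two,
      Matrix.head_cons, Matrix.tail_cons] at hg
    have h1 := congrArg (fun x => M (M x)) hg
    simp only [map_add, map_smul, hM3', map_zero, smul_zero, add_zero] at h1
    have g0 : g 0 = 0 := (smul_eq_zero.1 h1).resolve_right hMe2
    rw [g0, zero_smul, zero_add] at hg
    have h2' := congrArg (fun x => M x) hg
    simp only [map_add, map_smul, hM3', map_zero, smul_zero, add_zero] at h2'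
    have g1 : g 1 = 0 := (smul_eq_zero.1 h2').resolve_right hMe2
    rw [g1, zero_smul, zero_add] at hg
    have g2 : g 2 = 0 := (smul_eq_zero.1 hg).resolve_right hMe2
    intro i
    fin_cases i <;> assumption
  have hspan : Submodule.span F (Set.range ![e, M e, M (M e)]) = ⊤ :=
    hli.span_eq_top_of_card_eq_finrank (by simp [hdim])
  obtain ⟨γ, hγ⟩ := (Submodule.mem_span_range_iff_exists_fun F).1 (by
    rw [hspan]; exact Submodule.mem_top : A e ∈ Submodule.span F (Set.range ![e, M e, M (M e)]))
  simp only [Fin.sum_univ_three, Matrix.cons_val_zero, Matrix.cons_val_one, Matrix.cons_val_two,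
    Matrix.head_cons, Matrix.tail_cons] at hγ
  set R := γ 1 • M + γ 2 • M ^ 2 with hR
  have hAM : Commute A M := hcomm.sub_right (Commute.one_right A)
  have hA : A = γ 0 • 1 + R := by
    refine LinearMap.ext_on_range (R := F) hspan fun i => ?_
    have hAe : A e = (γ 0 • (1 : End F U) + R) e := by
      rw [← hγ]
      simp [hR, pow_two, Module.End.mul_apply]
      abel
    have hAMx : ∀ x, A (M x) = M (A x) := fun x => by
      rw [← Module.End.mul_apply, hAM.eq, Module.End.mul_apply]
    have hBM : ∀ x, (γ 0 • (1 : End F U) + R) (M x) = M ((γ 0 • (1 : End F U) + R) x) := fun x => by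
      simp [hR, pow_two, Module.End.mul_apply, map_add, map_smul]
    fin_cases i
    · exact hAe
    · show A (M e) = _
      rw [hAMx, hAe]
      exact (hBM e).symm
    · show A (M (M e)) = _
      rw [hAMx, hAMx, hAe, ← hBM e]
      exact (hBM (M e)).symm
  have hR3 : R ^ 3 = 0 := by
    have : R = M * (γ 1 • 1 + γ 2 • M) := by
      rw [hR, mul_add, mul_smul_comm, mul_one, mul_smul_comm, pow_two]
    rw [this, Commute.mul_pow (by simp [Commute.add_right, Commute.smul_right]), hM3, zero_mul]
  have hp3 : 3 ≤ p := by have := hp.two_le; omega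
  have hAp : A ^ p = γ 0 ^ p • 1 := by
    rw [hA, add_pow_char_of_commute _ ((Commute.one_left R).smul_left _), pow_eq_zero_of_le hp3 hR3,
      add_zero, _root_.smul_pow, one_pow]
  obtain ⟨j, hj⟩ : ∃ j, p * j ≡ 1 [MOD N] := by
    rcases Nat.eq_zero_or_pos N with rfl | hN0
    · exact absurd (Nat.coprime_zero_left p |>.1 hN) hp.one_lt.ne'
    refine ⟨p ^ (N.totient - 1), ?_⟩
    rw [← pow_succ', Nat.sub_add_cancel (Nat.totient_pos.2 hN0)]
    exact Nat.ModEq.pow_totient hN.symm
  have hA1 : A = (γ 0 ^ p) ^ j • 1 := by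
    have h1 : A ^ (p * j) = A ^ 1 := by
      rw [pow_eq_pow_mod (p * j) hAN, pow_eq_pow_mod 1 hAN, show p * j % N = 1 % N from hj]
    rw [pow_one] at h1
    rw [← h1, pow_mul, hAp, _root_.smul_pow, one_pow]
  set l := (γ 0 ^ p) ^ j
  refine ⟨l, ?_, hA1⟩
  obtain ⟨x, hx⟩ := exists_ne (0 : U)
  obtain ⟨y, hy⟩ : ∃ y, B x y ≠ 0 := by
    by_contra hc
    push Not at hc
    exact hx (hnd x hc)
  have := hAiso x y
  rw [hA1] at this
  simp only [LinearMap.smul_apply, Module.End.one_apply, map_smul, smul_eq_mul] at this
  exact mul_right_cancel₀ hy (by linear_combination this)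

end Cfsg.Agent.Lib.Spec48
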