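import Cfsg.Agent.Lib.Spec48.FreePerm
import Cfsg.Agent.Lib.Spec48.IrrTorus
import Cfsg.Agent.Lib.Spec48.UPart
import Cfsg.Agent.Lib.NumberTheory.Zsigmondy

/-!
An isometry of determinant one and order `p (q ^ k + 1)` of a `(2k+3)`-dimensional orthogonal space
permutes the vectors of norm `c ≠ 0` oddly. Hence it is not in the derived subgroup.
-/

set_option autoImplicit false

namespace Cfsg.Agent.Lib.Spec48

open Module

variable {F : Type*} [Field F] [Fintype F]

theorem two_ne_zero' (hodd : Odd (Fintype.card F)) : (2 : F) ≠ 0 := by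
  intro h
  have h' : ((2 : ℕ) : F) = 0 := by exact_mod_cast h
  have h2 : ringChar F = 2 := (Nat.prime_dvd_prime_iff_eq (CharP.char_is_prime F (ringChar F))
    Nat.prime_two).1 ((ringChar.spec F 2).1 h')
  exact (Nat.not_even_iff_odd.2 hodd) (Nat.even_iff.2 (FiniteField.even_card_of_char_two h2))

/-- A primitive prime of `q ^ (2k) - 1`. -/
theorem exists_prime_torus {q k p : ℕ} [Fact p.Prime] (hq : 2 < q) (hk : 2 ≤ k) (hpq : p ∣ q) :
    ∃ r : ℕ, r.Prime ∧ r ∣ q ^ k + 1 ∧ r ≠ p ∧ ∀ d, 0 < d → r ∣ q ^ d - 1 → 2 * k ∣ d := by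
  obtain ⟨r, hr, hord⟩ := Cfsg.Agent.Lib.NumberTheory.exists_primitive_prime (q := q) (n := 2 * k)
    (by omega) (by omega) (by omega) (fun h => by omega)
  have hfact : Fact r.Prime := ⟨hr⟩
  have h1 : ((q : ZMod r) ^ k) ^ 2 = 1 := by
    rw [← pow_mul, mul_comm, ← hord, pow_orderOf_eq_one]
  have h2 : (q : ZMod r) ^ k ≠ 1 := fun h => by
    have := Nat.le_of_dvd (by omega) (hord ▸ orderOf_dvd_of_pow_eq_one h)
    omega
  have h3 : ((q ^ k + 1 : ℕ) : ZMod r) = 0 := by
    push_cast
    rw [(sq_eq_one_iff.1 h1).resolve_left h2, neg_add_cancel]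
  refine ⟨r, hr, (ZMod.natCast_eq_zero_iff _ _).1 h3 |> fun h => h, ?_, fun d hd hdvd => ?_⟩
  · rintro rfl
    have h0 : (q : ZMod r) = 0 := (ZMod.natCast_eq_zero_iff _ _).2 hpq
    rw [h0, zero_pow (by omega), zero_pow two_ne_zero] at h1
    exact zero_ne_one h1
  · rw [← hord]
    apply orderOf_dvd_of_pow_eq_one
    have h4 : ((q ^ d - 1 : ℕ) : ZMod r) = 0 := (ZMod.natCast_eq_zero_iff _ _).2 hdvd
    rw [Nat.cast_sub (Nat.one_le_pow _ _ (by omega))] at h4
    push_cast at h4
    exact sub_eq_zero.1 h4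

variable {V : Type*} [AddCommGroup V] [Module F V] [FiniteDimensional F V]

/-- The sign is -1. -/
theorem sign_eq_neg_one (p : ℕ) [Fact p.Prime] [CharP F p] (hodd : Odd (Fintype.card F)) {k : ℕ}
    (hk : 2 ≤ k) (hdim : finrank F V = 2 * k + 3) (B : V →ₗ[F] V →ₗ[F] F)
    (hsymm : ∀ x y, B x y = B y x) (hnd : ∀ x, (∀ y, B x y = 0) → x = 0)
    (G : End F V) (hiso : ∀ x y, B (G x) (G y) = B x y) (hdet : LinearMap.det G = 1)
    (hord : orderOf G = p * (Fintype.card F ^ k + 1)) {c : F} (hc : c ≠ 0)
    [Fintype {v : V // B v v = c}] [DecidableEq {v : V // B v v = c}]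
    (σ : Equiv.Perm {v : V // B v v = c}) (hσ : ∀ x, (σ x).1 = G x.1) :
    Equiv.Perm.sign σ = -1 := by
  classical
  have hp : p.Prime := Fact.out
  set q := Fintype.card F with hqdef
  set N := q ^ k + 1 with hN
  obtain ⟨e₀, -, hcard⟩ := FiniteField.card F p
  have hpq : p ∣ q := by rw [hqdef, hcard]; exact dvd_pow_self p e₀.ne_zero
  have hq2 : 2 < q := by
    have := Fintype.one_lt_card (α := F)
    obtain ⟨j, hj⟩ := hodd
    omega
  have hpodd : Odd p := Odd.of_dvd_nat hodd hpq
  have hNeven : Even N := hodd.pow.add_one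
  have hNpos : 1 < N := by
    have := Nat.one_lt_pow (show k ≠ 0 by omega) (show 1 < q by omega)
    omega
  have hNp : N.Coprime p := by
    rw [Nat.coprime_comm, hp.coprime_iff_not_dvd]
    intro h
    have h' : p ∣ q ^ k := dvd_pow hpq (by omega)
    have := Nat.dvd_sub h h'
    rw [hN, Nat.add_sub_cancel_left] at this
    exact hp.one_lt.ne' (Nat.dvd_one.1 this)
  obtain ⟨r, hr, hrN, hrp, hrprim⟩ := exists_prime_torus (p := p) hq2 hk hpq
  have hV0 : Nontrivial V := Module.nontrivial_of_finrank_pos (R := F) (by omega)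
  have hfinV : Finite V := Module.finite_of_finite F
  have hG : G ^ (p * N) = 1 := hord ▸ pow_orderOf_eq_one G
  set s := G ^ p with hs
  set u := G ^ N with hu
  have hsN : s ^ N = 1 := by rw [hs, ← pow_mul, hG]
  have hup : u ^ p = 1 := by rw [hu, ← pow_mul, mul_comm, hG]
  have hords : orderOf s = N := by
    rw [hs, orderOf_pow_of_dvd hp.ne_zero (hord ▸ dvd_mul_right p N), hord,
      Nat.mul_div_cancel_left _ hp.pos]
  have hu1 : u ≠ 1 := fun h => by
    have h1 := Nat.le_of_dvd (by omega) (hord ▸ orderOf_dvd_of_pow_eq_one h)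
    have := hp.two_le
    nlinarith
  obtain ⟨m, hm⟩ := hrN
  set t := s ^ m with ht
  have htr : t ^ r = 1 := by rw [ht, ← pow_mul, mul_comm, ← hm, hsN]
  have ht1 : t ≠ 1 := fun h => by
    have h1 : N ∣ m := hords ▸ orderOf_dvd_of_pow_eq_one h
    have hm0 : 0 < m := Nat.pos_of_ne_zero fun h0 => by subst h0; omega
    have h2 := Nat.le_of_dvd hm0 h1
    have := hr.two_le
    nlinarith
  have hpow_iso : ∀ (A : End F V), (∀ x y, B (A x) (A y) = B x y) → ∀ i x y,
      B ((A ^ i) x) ((A ^ i) y) = B x y := by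
    intro A hA i
    induction i with
    | zero => simp
    | succ i ih =>
      intro x y
      rw [pow_succ, Module.End.mul_apply, Module.End.mul_apply, ih, hA]
  have hsiso : ∀ x y, B (s x) (s y) = B x y := hpow_iso G hiso p
  have huiso : ∀ x y, B (u x) (u y) = B x y := hpow_iso G hiso N
  have htiso : ∀ x y, B (t x) (t y) = B x y := hpow_iso s hsiso m
  have hcst : Commute s t := Commute.self_pow s m
  have hcut : Commute u t := ((Commute.pow_pow_self G N p).pow_right m)
  have hcsu : Commute s u := Commute.pow_pow_self G p N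
  -- the decomposition
  set U := LinearMap.ker (t - 1) with hU
  set W := LinearMap.range (t - 1) with hW
  have hmemU : ∀ x, x ∈ U ↔ t x = x := fun x => by
    simp [hU, LinearMap.mem_ker, sub_eq_zero]
  have hcompl : IsCompl W U := by
    have hdis : Disjoint W U := by
      rw [Submodule.disjoint_def]
      rintro x ⟨y, rfl⟩ hxU
      rw [hmemU] at hxU
      set x := (t - 1) y with hx
      have hfix : ∀ i, (t ^ i) x = x := fun i => by
        induction i with
        | zero => simp
        | succ i ih => rw [pow_succ, Module.End.mul_apply, hxU, ih]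
      have h1 : (∑ i ∈ Finset.range r, t ^ i) x = (r : F) • x := by
        rw [LinearMap.sum_apply, Finset.sum_congr rfl fun i _ => hfix i, Finset.sum_const,
          Finset.card_range, Nat.cast_smul_eq_nsmul]
      have h2 : (∑ i ∈ Finset.range r, t ^ i) x = 0 := by
        rw [hx, ← Module.End.mul_apply, geom_sum_mul, htr, sub_self, LinearMap.zero_apply]
      rw [h1] at h2
      refine (smul_eq_zero.1 h2).resolve_left fun h => hrp ?_
      exact ((Nat.prime_dvd_prime_iff_eq hp hr).1 ((CharP.cast_eq_zero_iff F p r).1 h)).symm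
    refine Submodule.isCompl_iff_disjoint _ _ ?_ |>.2 hdis
    rw [LinearMap.finrank_range_add_finrank_ker]
  have hmap : ∀ A : End F V, Commute A t → (∀ x ∈ W, A x ∈ W) ∧ (∀ x ∈ U, A x ∈ U) := by
    intro A hA
    constructor
    · rintro _ ⟨y, rfl⟩
      refine ⟨A y, ?_⟩
      rw [← Module.End.mul_apply, ← Module.End.mul_apply,
        (hA.sub_right (Commute.one_right A)).eq]
    · intro x hx
      rw [hmemU] at hx ⊢
      rw [← Module.End.mul_apply, ← hA.eq, Module.End.mul_apply, hx]
  have hperp : ∀ w ∈ W, ∀ y ∈ U, B w y = 0 := by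
    rintro _ ⟨z, rfl⟩ y hy
    rw [hmemU] at hy
    rw [LinearMap.sub_apply, Module.End.one_apply, map_sub, LinearMap.sub_apply]
    conv_lhs => arg 1; rw [← hy, htiso]
    exact sub_self _
  have hsplit : ∀ v : V, ∃ w ∈ W, ∃ y ∈ U, v = w + y := by
    intro v
    have : v ∈ W ⊔ U := by rw [hcompl.sup_eq_top]; trivial
    obtain ⟨w, hw, y, hy, h⟩ := Submodule.mem_sup.1 this
    exact ⟨w, hw, y, hy, h.symm⟩
  have hndW : ∀ w ∈ W, (∀ z ∈ W, B w z = 0) → w = 0 := fun w hw h => hnd w fun v => by
    obtain ⟨a, ha, b, hb, rfl⟩ := hsplit v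
    rw [map_add, h a ha, hperp w hw b hb, add_zero]
  have hndU : ∀ w ∈ U, (∀ z ∈ U, B w z = 0) → w = 0 := fun w hw h => hnd w fun v => by
    obtain ⟨a, ha, b, hb, rfl⟩ := hsplit v
    rw [map_add, h b hb, hsymm w a, hperp a ha w hw, add_zero]
  -- dimensions of invariant subspaces of W
  have hinvdim : ∀ S : Submodule F V, S ≤ W → (∀ x ∈ S, t x ∈ S) → S ≠ ⊥ →
      2 * k ∣ finrank F S := by
    intro S hSW hS hne
    have hd : 0 < finrank F S := by
      rw [Nat.pos_iff_ne_zero]
      exact fun h => hne (Submodule.finrank_eq_zero.1 h)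
    refine hrprim _ hd ?_
    let X := {x : S // x ≠ 0}
    have htinj : Function.Injective t := by
      intro a b hab
      have := congrArg (t ^ (r - 1)) hab
      rw [← Module.End.mul_apply, ← Module.End.mul_apply, ← pow_succ,
        Nat.sub_add_cancel hr.one_lt.le, htr] at this
      exact this
    let f : X → X := fun x => ⟨⟨t x.1.1, hS _ x.1.2⟩, fun h => x.2 (Subtype.ext (htinj
      ((congrArg Subtype.val h).trans (by simp))))⟩
    have hf : Function.Injective f := fun a b h => Subtype.ext (Subtype.ext (htinj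
      (congrArg (fun z : X => z.1.1) h)))
    let τ : Equiv.Perm X := Equiv.ofBijective f (Finite.injective_iff_bijective.1 hf)
    have hτ : ∀ i (x : X), ((τ ^ i) x).1.1 = (t ^ i) x.1.1 := by
      intro i
      induction i with
      | zero => simp
      | succ i ih => intro x; rw [pow_succ, Equiv.Perm.mul_apply, ih, pow_succ, Module.End.mul_apply]; rfl
    have hdvd := dvd_card_of_free τ hr.one_lt (Equiv.ext fun x => Subtype.ext (Subtype.ext (by
        rw [hτ, htr]; rfl))) (fun x i hi => by
      by_contra hri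
      obtain ⟨j, hj⟩ : ∃ j, i * j % r = 1 := by
        obtain ⟨j, -, hj⟩ := Nat.exists_mul_mod_eq_one_of_coprime
          ((hr.coprime_iff_not_dvd.2 hri).symm) hr.one_lt
        exact ⟨j, hj⟩
      have hix : (t ^ i) x.1.1 = x.1.1 := by rw [← hτ, hi]
      have hij : ∀ j, (t ^ (i * j)) x.1.1 = x.1.1 := fun j => by
        induction j with
        | zero => simp
        | succ j ih => rw [Nat.mul_succ, pow_add, Module.End.mul_apply, hix, ih]
      have h1 := hij j
      rw [pow_eq_pow_mod (i * j) htr, hj, pow_one, ← hmemU] at h1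
      exact x.2 (Subtype.ext (Submodule.disjoint_def.1 hcompl.disjoint _ (hSW x.1.2) h1)))
    have hS' : Nat.card X = q ^ finrank F S - 1 := by
      have : Fintype S := Fintype.ofFinite S
      rw [Nat.card_eq_fintype_card, Fintype.card_subtype_compl, Fintype.card_subtype_eq,
        ← Nat.card_eq_fintype_card, Module.natCard_eq_pow_finrank (K := F), Nat.card_eq_fintype_card]
    rwa [← hS']
  have hWne : W ≠ ⊥ := fun h => ht1 (by
    rw [hW, LinearMap.range_eq_bot, sub_eq_zero] at h
    exact h)
  have hdimsum : finrank F W + finrank F U = 2 * k + 3 := by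
    rw [Submodule.finrank_add_eq_of_isCompl hcompl, hdim]
  have hdimW : finrank F W = 2 * k := by
    obtain ⟨a, ha⟩ := hinvdim W le_rfl (hmap t (Commute.refl t)).1 hWne
    rcases a with _ | _ | a
    · exact absurd (Submodule.finrank_eq_zero.1 (by omega)) hWne
    · omega
    · exfalso
      have : 2 * k * 2 ≤ finrank F W := by rw [ha]; exact Nat.mul_le_mul_left _ (by omega)
      omega
  have hdimU : finrank F U = 3 := by omega
  -- restrictions
  let tW : End F W := t.restrict (hmap t (Commute.refl t)).1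
  have hirr : ∀ S : Submodule F W, (∀ x ∈ S, tW x ∈ S) → S = ⊥ ∨ S = ⊤ := by
    intro S hS
    by_cases h0 : S = ⊥
    · exact Or.inl h0
    refine Or.inr (Submodule.eq_top_of_finrank_eq ?_)
    have hd := hinvdim (S.map W.subtype) (by rintro _ ⟨x, -, rfl⟩; exact x.2)
      (by rintro _ ⟨x, hx, rfl⟩; exact ⟨tW x, hS x hx, rfl⟩)
      (fun h => h0 (Submodule.map_injective_of_injective W.subtype_injective (by rw [h, Submodule.map_bot])))
    rw [Submodule.finrank_map_subtype_eq] at hd
    have h1 := Submodule.finrank_le S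
    have h2 : finrank F S ≠ 0 := fun h => h0 (Submodule.finrank_eq_zero.1 h)
    have := Nat.le_of_dvd (Nat.pos_of_ne_zero h2) hd
    omega
  let uW : End F W := u.restrict (hmap u hcut).1
  let sW : End F W := s.restrict (hmap s hcst).1
  let uU : End F U := u.restrict (hmap u hcut).2
  let sU : End F U := s.restrict (hmap s hcst).2
  have hWnt : Nontrivial W := Module.nontrivial_of_finrank_pos (R := F) (by omega)
  obtain ⟨w₀, hw₀⟩ := exists_ne (0 : W)
  obtain ⟨hinj, -, -⟩ := centralizer_facts tW hirr hw₀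
  have hres : ∀ (A : End F V) (h : ∀ x ∈ W, A x ∈ W) (i : ℕ) (x : W),
      (((A.restrict h) ^ i) x).1 = (A ^ i) x.1 := by
    intro A h i
    induction i with
    | zero => simp
    | succ i ih => intro x; rw [pow_succ, Module.End.mul_apply, ih, pow_succ, Module.End.mul_apply]; rfl
  have hresU : ∀ (A : End F V) (h : ∀ x ∈ U, A x ∈ U) (i : ℕ) (x : U),
      (((A.restrict h) ^ i) x).1 = (A ^ i) x.1 := by
    intro A h i
    induction i with
    | zero => simp
    | succ i ih => intro x; rw [pow_succ, Module.End.mul_apply, ih, pow_succ, Module.End.mul_apply]; rfl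
  have hcW : ∀ (A : End F V) (hA : Commute A t), Commute (A.restrict (hmap A hA).1) tW := fun A hA =>
    LinearMap.ext fun x => Subtype.ext (LinearMap.congr_fun hA.eq x.1)
  have hchW : CharP (End F W) p :=
    charP_of_injective_algebraMap (algebraMap F (End F W)).injective p
  have huW : uW = 1 := by
    by_contra h
    have hne : uW - 1 ≠ 0 := sub_ne_zero.2 h
    have hi := hinj _ ((hcW u hcut).sub_left (Commute.one_left tW)) hne
    have hp0 : (uW - 1) ^ p = 0 := by
      have : uW ^ p = 1 := LinearMap.ext fun x => Subtype.ext (by rw [hres, hup]; rfl)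
      rw [sub_pow_char_of_commute _ (Commute.one_right uW), this, one_pow, sub_self]
    have hall : ∀ (i : ℕ) (x : W), ((uW - 1) ^ i) x = 0 → x = 0 := fun i => by
      induction i with
      | zero => intro x hx; simpa using hx
      | succ i ih =>
        intro x hx
        rw [pow_succ, Module.End.mul_apply] at hx
        exact hi ((ih _ hx).trans (map_zero _).symm)
    exact hw₀ (hall p w₀ (by rw [hp0]; rfl))
  have huU : uU ≠ 1 := fun h => hu1 (LinearMap.ext fun v => by
    obtain ⟨a, ha, b, hb, rfl⟩ := hsplit v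
    have e1 : u a = a := congrArg Subtype.val (LinearMap.congr_fun huW ⟨a, ha⟩)
    have e2 : u b = b := congrArg Subtype.val (LinearMap.congr_fun h ⟨b, hb⟩)
    rw [map_add, e1, e2]; rfl)
  let BU : U →ₗ[F] U →ₗ[F] F := B.compl₁₂ U.subtype U.subtype
  let BW : W →ₗ[F] W →ₗ[F] F := B.compl₁₂ W.subtype W.subtype
  have hBW : ∃ x y, BW x y ≠ 0 := by
    by_contra h
    push Not at h
    exact hw₀ (Subtype.ext (hndW w₀.1 w₀.2 fun z hz => h w₀ ⟨z, hz⟩))
  have htW : tW ^ N = 1 := LinearMap.ext fun x => Subtype.ext (by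
    rw [hres, show N = r * m from hm, pow_mul, htr, one_pow]; rfl)
  obtain ⟨⟨jW, hjodd, hjW⟩, hdetW⟩ := irreducible_piece tW hirr (k := k) (by omega) hdimW hodd htW
    BW (fun x y => hsymm x.1 y.1) (fun x y => htiso x.1 y.1) hBW hc
  have hsW : sW ^ N = 1 := LinearMap.ext fun x => Subtype.ext (by rw [hres, hsN]; rfl)
  have hsUN : sU ^ N = 1 := LinearMap.ext fun x => Subtype.ext (by rw [hresU, hsN]; rfl)
  obtain ⟨l, hl2, hlU⟩ := scalar_of_commute_unipotent p (two_ne_zero' hodd) hdimU BU
    (fun x y => hsymm x.1 y.1)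
    (fun x hx => Subtype.ext (hndU x.1 x.2 fun z hz => hx ⟨z, hz⟩))
    sU uU (fun x y => hsiso x.1 y.1) (fun x y => huiso x.1 y.1)
    (LinearMap.ext fun x => Subtype.ext (LinearMap.congr_fun hcsu.eq x.1))
    (LinearMap.ext fun x => Subtype.ext (by rw [hresU, hup]; rfl)) huU hNp hsUN
  have hdets : LinearMap.det s = LinearMap.det sW * LinearMap.det sU := by
    let e := Submodule.prodEquivOfIsCompl W U hcompl
    have hconj : s = (e : (W × U) →ₗ[F] V) ∘ₗ (sW.prodMap sU) ∘ₗ (e.symm : V →ₗ[F] W × U) := by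
      apply LinearMap.ext
      intro v
      obtain ⟨⟨a, b⟩, rfl⟩ := e.surjective v
      rw [LinearMap.comp_apply, LinearMap.comp_apply, LinearEquiv.coe_coe, LinearEquiv.coe_coe,
        LinearEquiv.symm_apply_apply, LinearMap.prodMap_apply]
      show s ((a : V) + (b : V)) = (sW a : V) + (sU b : V)
      rw [map_add]
      rfl
    conv_lhs => rw [hconj]
    rw [LinearMap.det_conj, LinearMap.det_prodMap]
  have hl : l = 1 := by
    rw [hs, map_pow, hdet, one_pow, hdetW sW (hcW s hcst) hsW, one_mul, hlU, LinearMap.det_smul,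
      hdimU, map_one, mul_one] at hdets
    linear_combination -hdets - l * hl2
  have hsU1 : ∀ y ∈ U, s y = y := fun y hy => by
    have := congrArg Subtype.val (LinearMap.congr_fun hlU ⟨y, hy⟩)
    simpa [sU, hl] using this
  -- periods
  have hfreeW : ∀ w : W, w ≠ 0 → ∀ i : ℕ, (sW ^ i) w = w → N ∣ i := by
    intro w hw i hi
    have hpow : sW ^ i = 1 := by
      by_contra h
      have := hinj _ (((hcW s hcst).pow_left i).sub_left (Commute.one_left tW)) (sub_ne_zero.2 h)
        (a₁ := w) (a₂ := 0) (by rw [LinearMap.sub_apply, hi, Module.End.one_apply, sub_self, map_zero])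
      exact hw this
    rw [← hords]
    refine orderOf_dvd_of_pow_eq_one (LinearMap.ext fun v => ?_)
    obtain ⟨a, ha, b, hb, rfl⟩ := hsplit v
    have e1 : (s ^ i) a = a := by
      rw [← hres s (hmap s hcst).1 i ⟨a, ha⟩]
      exact congrArg Subtype.val (LinearMap.congr_fun hpow ⟨a, ha⟩)
    have e2 : (s ^ i) b = b := by
      clear * - hsU1 hb
      induction i with
      | zero => simp
      | succ i ih => rw [pow_succ, Module.End.mul_apply, hsU1 b hb, ih]
    rw [map_add, e1, e2]; rfl
  have hσpow : ∀ i (x : {v : V // B v v = c}), ((σ ^ i) x).1 = (G ^ i) x.1 := by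
    intro i
    induction i with
    | zero => simp
    | succ i ih => intro x; rw [pow_succ, Equiv.Perm.mul_apply, ih, pow_succ, Module.End.mul_apply, hσ]
  set π := σ ^ p
  have hπ : ∀ i (x : {v : V // B v v = c}), ((π ^ i) x).1 = (s ^ i) x.1 := fun i x => by
    rw [hs, ← pow_mul, ← pow_mul, hσpow]
  have hπN : π ^ N = 1 := Equiv.ext fun x => Subtype.ext (by rw [hπ, hsN]; rfl)
  let pW : V →ₗ[F] W := (LinearMap.fst F W U).comp (Submodule.prodEquivOfIsCompl W U hcompl).symm.toLinearMap
  let pU : V →ₗ[F] U := (LinearMap.snd F W U).comp (Submodule.prodEquivOfIsCompl W U hcompl).symm.toLinearMap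
  have hdec : ∀ v, v = (pW v : V) + (pU v : V) := fun v => by
    conv_lhs => rw [← (Submodule.prodEquivOfIsCompl W U hcompl).apply_symm_apply v]
    rfl
  have hpW : ∀ (w : W) (y : U), pW ((w : V) + y) = w ∧ pU ((w : V) + y) = y := fun w y => by
    have : (Submodule.prodEquivOfIsCompl W U hcompl).symm ((w : V) + y) = (w, y) := by
      rw [LinearEquiv.symm_apply_eq]; rfl
    exact ⟨congrArg Prod.fst this, congrArg Prod.snd this⟩
  have hpowdec : ∀ i v, (s ^ i) v = (((sW ^ i) (pW v)) : V) + (pU v : V) := by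
    intro i v
    conv_lhs => rw [hdec v, map_add]
    rw [hres]
    congr 1
    induction i with
    | zero => simp
    | succ i ih => rw [pow_succ, Module.End.mul_apply, hsU1 _ (pU v).2, ih]
  have hmoved : ∀ x : {v : V // B v v = c}, π x ≠ x ↔ pW x.1 ≠ 0 := by
    intro x
    constructor
    · intro h h0
      apply h
      apply Subtype.ext
      have := hπ 1 x
      rw [pow_one, hpowdec, h0, map_zero, ← h0] at this
      rw [this, ← hdec]
    · intro h0 h
      have h1 := hπ 1 x
      rw [pow_one, h, hpowdec] at h1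
      conv_lhs at h1 => rw [hdec x.1]
      have h2 := hfreeW _ h0 1 (Subtype.ext (add_right_cancel h1.symm))
      have := Nat.le_of_dvd one_pos h2
      omega
  have hper : ∀ x, π x ≠ x → ∀ i : ℕ, (π ^ i) x = x → N ∣ i := by
    intro x hx i hi
    have h1 := hπ i x
    rw [hi, hpowdec] at h1
    conv_lhs at h1 => rw [hdec x.1]
    exact hfreeW _ ((hmoved x).1 hx) i (Subtype.ext (add_right_cancel h1.symm))
  obtain ⟨-, hsign⟩ := sign_and_support_of_period π hπN hper
  have hσsign : Equiv.Perm.sign π = Equiv.Perm.sign σ := by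
    rw [map_pow, Int.units_pow_eq_pow_mod_two, Nat.odd_iff.1 hpodd, pow_one]
  rw [← hσsign, hsign hNeven (by omega)]
  -- count the support
  have := Fintype.ofFinite U
  let h : U → ℕ := fun y => Nat.card {w : W // w ≠ 0 ∧ BW w w = c - B y.1 y.1}
  have hsupp : π.support.card = ∑ y : U, h y := by
    rw [← Nat.card_sigma, ← Fintype.card_coe, ← Nat.card_eq_fintype_card]
    refine Nat.card_congr
      { toFun := fun x => ⟨pU x.1.1, ⟨pW x.1.1, (hmoved x.1).1 (Equiv.Perm.mem_support.1 x.2), ?_⟩⟩
        invFun := fun z => ⟨⟨(z.2.1 : V) + (z.1 : V), ?_⟩, Equiv.Perm.mem_support.2 ((hmoved _).2 ?_)⟩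
        left_inv := fun x => Subtype.ext (Subtype.ext (hdec x.1.1).symm)
        right_inv := fun z => ?_ }
    · have hx := x.1.2
      rw [hdec x.1.1] at hx
      simp only [map_add, LinearMap.add_apply, hperp _ (pW x.1.1).2 _ (pU x.1.1).2,
        hsymm (pU x.1.1 : V) (pW x.1.1 : V)] at hx
      show B (pW x.1.1 : V) (pW x.1.1 : V) = _
      linear_combination hx
    · have hz : B (z.2.1 : V) (z.2.1 : V) = c - B (z.1 : V) (z.1 : V) := z.2.2.2
      simp only [map_add, LinearMap.add_apply, hperp _ z.2.1.2 _ z.1.2,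
        hsymm (z.1 : V) (z.2.1 : V)]
      linear_combination hz
    · rw [show pW ((z.2.1 : V) + (z.1 : V)) = z.2.1 from (hpW _ _).1]
      exact z.2.2.1
    · obtain ⟨y, w, hw⟩ := z
      refine Sigma.subtype_ext ?_ ?_
      · exact (hpW w y).2
      · exact (hpW w y).1
  have hdvd : ∀ y, N ∣ h y := by
    intro y
    let Z := {w : W // w ≠ 0 ∧ BW w w = c - B y.1 y.1}
    have hsinj : Function.Injective sW := by
      intro a b hab
      have := congrArg (sW ^ (N - 1)) hab
      rw [← Module.End.mul_apply, ← Module.End.mul_apply, ← pow_succ,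
        Nat.sub_add_cancel (by omega), hsW] at this
      exact this
    let f : Z → Z := fun w => ⟨sW w.1, fun h => w.2.1 (hsinj (by rw [h, map_zero])),
      (hsiso w.1.1 w.1.1).trans w.2.2⟩
    let τ : Equiv.Perm Z := Equiv.ofBijective f (Finite.injective_iff_bijective.1
      fun a b h => Subtype.ext (hsinj (congrArg Subtype.val h)))
    have hτ : ∀ i (w : Z), ((τ ^ i) w).1 = (sW ^ i) w.1 := by
      intro i
      induction i with
      | zero => simp
      | succ i ih => intro w; rw [pow_succ, Equiv.Perm.mul_apply, ih, pow_succ, Module.End.mul_apply]; rfl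
    exact dvd_card_of_free τ hNpos (Equiv.ext fun w => Subtype.ext (by rw [hτ, hsW]; rfl))
      (fun w i hi => hfreeW w.1 w.2.1 i (by rw [← hτ, hi]))
  have hdiv : π.support.card / N = ∑ y : U, h y / N := by
    rw [hsupp, Finset.sum_congr rfl fun y _ => (Nat.mul_div_cancel' (hdvd y)).symm, ← Finset.mul_sum,
      Nat.mul_div_cancel_left _ (by omega : 0 < N)]
  rw [hdiv, Odd.neg_one_pow]
  rw [← ZMod.natCast_eq_one_iff_odd, Nat.cast_sum, ← Finset.add_sum_erase _ _ (Finset.mem_univ (0 : U))]
  have h0 : h 0 = N * jW := by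
    rw [← hjW]
    refine Nat.card_congr (Equiv.subtypeEquivRight fun w => ?_)
    constructor
    · intro hw
      simpa using hw.2
    · intro hw
      exact ⟨fun h0 => hc (by rw [← hw, h0]; simp), by simpa using hw⟩
  have hrest : ∑ y ∈ Finset.univ.erase (0 : U), ((h y / N : ℕ) : ZMod 2) = 0 := by
    refine Finset.sum_involution (fun y _ => -y) (fun y _ => ?_) (fun y hy _ hne => ?_)
      (fun y hy => ?_) (fun y _ => neg_neg y)
    · have : h (-y) = h y := by simp [h]
      rw [this, ← two_mul, show (2 : ZMod 2) = 0 from rfl, zero_mul]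
    · refine Finset.ne_of_mem_erase hy ?_
      have h2 : (2 : F) • y = 0 := by rw [two_smul]; exact add_eq_zero_iff_eq_neg.2 hne.symm
      exact (smul_eq_zero.1 h2).resolve_left (two_ne_zero' hodd)
    · simpa using hy
  rw [hrest, add_zero, h0, Nat.mul_div_cancel_left _ (by omega : 0 < N)]
  exact ZMod.natCast_eq_one_iff_odd.2 hjodd

end Cfsg.Agent.Lib.Spec48
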