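import Cfsg.Agent.Lib.Symplectic.Std

/-!
An element of order `p (q ^ k + 1)` of `PSp_{2(k+1)}(q)`, `q` odd: a torus generator of
`SL_2(q ^ k) ≤ Sp_{2k}(q)` times a transvection.
-/

set_option autoImplicit false

namespace Cfsg.Agent.Lib.Spec48

open Module Cfsg.Agent.Lib.Symplectic

variable {F : Type*} [Field F] [Fintype F]

/-- The form `tr (δ x σ(y)) + (a b' - b a')` on `K × F × F`. -/
noncomputable def torusForm {K : Type*} [Field K] [Algebra F K] (δ : K) (σ : K ≃ₐ[F] K) :
    (K × F × F) →ₗ[F] (K × F × F) →ₗ[F] F :=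
  LinearMap.mk₂ F (fun x y => Algebra.trace F K (δ * x.1 * σ y.1) + (x.2.1 * y.2.2 - x.2.2 * y.2.1))
    (fun x x' y => by simp only [Prod.fst_add, Prod.snd_add, mul_add, add_mul, map_add]; ring)
    (fun a x y => by
      simp only [Prod.smul_fst, Prod.smul_snd, mul_smul_comm, smul_mul_assoc, map_smul, smul_eq_mul]
      ring)
    (fun x y y' => by simp only [Prod.fst_add, Prod.snd_add, mul_add, add_mul, map_add]; ring)
    (fun a x y => by
      simp only [Prod.smul_fst, Prod.smul_snd, mul_smul_comm, smul_mul_assoc, map_smul, smul_eq_mul]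
      ring)

theorem torusForm_apply {K : Type*} [Field K] [Algebra F K] (δ : K) (σ : K ≃ₐ[F] K)
    (x y : K × F × F) : torusForm δ σ x y =
      Algebra.trace F K (δ * x.1 * σ y.1) + (x.2.1 * y.2.2 - x.2.2 * y.2.1) := rfl

theorem exists_orderOf_psp (p : ℕ) [Fact p.Prime] [CharP F p] (h2 : (2 : F) ≠ 0) {k : ℕ}
    (hk : 1 ≤ k) :
    ∃ g : Cfsg.PSp (k + 1) F, orderOf g = p * (Fintype.card F ^ k + 1) := by
  classical
  have : NeZero (2 * k) := ⟨by omega⟩
  let K := FiniteField.Extension F p (2 * k)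
  have : Fintype K := Fintype.ofFinite K
  have hq : 1 < Fintype.card F := Fintype.one_lt_card
  set Q := Fintype.card F ^ k with hQ
  have hQ1 : 1 < Q := Nat.one_lt_pow (by omega) hq
  have hcard : Nat.card K = Q * Q := by
    rw [FiniteField.natCard_extension, Nat.card_eq_fintype_card, hQ, two_mul, pow_add]
  let σ : K ≃ₐ[F] K := FiniteField.Extension.frob F p (2 * k) ^ k
  have hσ : ∀ x : K, σ x = x ^ Q := fun x => by
    rw [FiniteField.Extension.frob_iterate_apply, Nat.card_eq_fintype_card]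
  have hQQ : ∀ x : K, x ^ (Q * Q) = x := fun x => by
    rw [← hcard, Nat.card_eq_fintype_card, FiniteField.pow_card]
  have hσσ : ∀ x, σ (σ x) = x := fun x => by rw [hσ, hσ, ← pow_mul, hQQ]
  obtain ⟨gen, hgen⟩ := IsCyclic.exists_ofOrder_eq_natCard (α := Kˣ)
  rw [Nat.card_units, hcard] at hgen
  have hfac : Q * Q - 1 = (Q - 1) * (Q + 1) := by
    obtain ⟨Q', hQ'⟩ := Nat.exists_eq_add_of_le hQ1.le
    rw [hQ', Nat.add_sub_cancel_left]
    have : (1 + Q') * (1 + Q') = Q' * (1 + Q' + 1) + 1 := by ring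
    omega
  set ζ := gen ^ (Q - 1) with hζdef
  have hζ : orderOf ζ = Q + 1 := by
    rw [hζdef, orderOf_pow_of_dvd (by omega) (hgen ▸ hfac ▸ dvd_mul_right _ _), hgen, hfac,
      Nat.mul_div_cancel_left _ (by omega)]
  have hζσ : (ζ : K) * σ (ζ : K) = 1 := by
    rw [hσ, ← pow_succ', ← Units.val_pow_eq_pow_val, ← hζ, pow_orderOf_eq_one, Units.val_one]
  obtain ⟨x₀, hx₀⟩ : ∃ x : K, σ x ≠ x := by
    by_contra h
    push Not at h
    have h1 : gen ^ Q = gen ^ 1 := Units.ext (by
      rw [Units.val_pow_eq_pow_val, ← hσ, h, pow_one])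
    rw [pow_eq_pow_iff_modEq, hgen] at h1
    have h3 : 2 * Q ≤ Q * Q := Nat.mul_le_mul_right Q hQ1
    have h4 := h1.eq_of_lt_of_lt (by omega) (by omega)
    omega
  set δ := x₀ - σ x₀ with hδdef
  have hδ0 : δ ≠ 0 := sub_ne_zero.2 (Ne.symm hx₀)
  have hσδ : σ δ = -δ := by rw [hδdef, map_sub, hσσ, neg_sub]
  let B := torusForm δ σ
  have hB : IsSympForm B := by
    constructor
    · intro x
      have hz : σ (δ * x.1 * σ x.1) = -(δ * x.1 * σ x.1) := by
        rw [map_mul, map_mul, hσσ, hσδ]; ring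
      have ht := Algebra.trace_eq_of_algEquiv σ (δ * x.1 * σ x.1)
      rw [hz, map_neg] at ht
      have : Algebra.trace F K (δ * x.1 * σ x.1) = 0 := by
        have h' : (2 : F) * Algebra.trace F K (δ * x.1 * σ x.1) = 0 := by linear_combination -ht
        exact (mul_eq_zero.1 h').resolve_left h2
      rw [torusForm_apply, this]
      ring
    · rintro ⟨x, a, b⟩ h
      have ha := h (0, 0, 1)
      have hb := h (0, 1, 0)
      simp [B, torusForm_apply] at ha hb
      have hx : δ * x = 0 := by
        refine (traceForm_nondegenerate F K).1 _ fun y => ?_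
        have := h (σ y, 0, 0)
        rw [torusForm_apply] at this
        simp only [hσσ, mul_zero, sub_zero, add_zero] at this
        rwa [Algebra.traceForm_apply]
      have hx0 : x = 0 := (mul_eq_zero.1 hx).resolve_left hδ0
      subst hx0 ha hb
      rfl
  let mulζ : K ≃ₗ[F] K :=
    LinearEquiv.ofLinearMap (LinearMap.mulLeft F (ζ : K)) (LinearMap.mulLeft F ((ζ⁻¹ : Kˣ) : K))
      (LinearMap.ext fun x => by simp)
      (LinearMap.ext fun x => by simp)
  let T : (F × F) ≃ₗ[F] (F × F) :=
    { toFun := fun x => (x.1 + x.2, x.2)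
      map_add' := fun x y => by ext <;> simp; ring
      map_smul' := fun a x => by ext <;> simp [mul_add]
      invFun := fun x => (x.1 - x.2, x.2)
      left_inv := fun x => by simp
      right_inv := fun x => by simp }
  let g : Isom B := ⟨mulζ.prodCongr T, fun x y => by
    show B (mulζ x.1, T x.2) (mulζ y.1, T y.2) = B x y
    rw [torusForm_apply, torusForm_apply]
    show Algebra.trace F K (δ * ((ζ : K) * x.1) * σ ((ζ : K) * y.1)) +
      ((x.2.1 + x.2.2) * y.2.2 - x.2.2 * (y.2.1 + y.2.2)) = _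
    rw [map_mul σ]
    rw [show δ * ((ζ : K) * x.1) * (σ (ζ : K) * σ y.1) =
      ((ζ : K) * σ (ζ : K)) * (δ * x.1 * σ y.1) by ring, hζσ, one_mul]
    ring⟩
  have hgpow : ∀ (i : ℕ) (x : K × F × F),
      (g ^ i) • x = ((ζ : K) ^ i * x.1, x.2.1 + (i : F) * x.2.2, x.2.2) := by
    intro i
    induction i with
    | zero => intro x; simp
    | succ i ih =>
      intro x
      rw [pow_succ, mul_smul, show g • x = ((ζ : K) * x.1, x.2.1 + x.2.2, x.2.2) from rfl, ih]
      refine Prod.ext ?_ (Prod.ext ?_ rfl)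
      · simp only [pow_succ]; ring
      · push_cast; ring
  have hcenter : ∀ i : ℕ, g ^ i ∈ Subgroup.center (Isom B) ↔ p * (Q + 1) ∣ i := by
    intro i
    constructor
    · intro h
      rw [← SetLike.mem_coe, center_isom hB, Set.mem_insert_iff, Set.mem_singleton_iff] at h
      rcases h with h | h
      · have h1 := hgpow i (1, 0, 1)
        rw [h, one_smul, mul_one, zero_add, mul_one] at h1
        simp only [Prod.mk.injEq, and_true] at h1
        have hp : p ∣ i := (CharP.cast_eq_zero_iff F p i).1 h1.2.symm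
        have hN : Q + 1 ∣ i := hζ ▸ orderOf_dvd_of_pow_eq_one (Units.ext (by
          rw [Units.val_pow_eq_pow_val, Units.val_one, ← h1.1]))
        refine Nat.Coprime.mul_dvd_of_dvd_of_dvd ?_ hp hN
        rw [(Fact.out : p.Prime).coprime_iff_not_dvd]
        intro hd
        have h3 : ((Q + 1 : ℕ) : F) = 0 := (CharP.cast_eq_zero_iff F p _).2 hd
        rw [hQ, Nat.cast_add, Nat.cast_pow, Nat.cast_card_eq_zero, zero_pow (by omega),
          zero_add, Nat.cast_one] at h3
        exact one_ne_zero h3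
      · exfalso
        have h1 := hgpow i (0, 0, 1)
        rw [h, negIsom_smul] at h1
        simp only [Prod.neg_mk, Prod.mk.injEq] at h1
        exact h2 (by linear_combination -h1.2.2)
    · intro h
      have : g ^ i = 1 := by
        apply isom_ext
        intro x
        rw [hgpow, one_smul, (CharP.cast_eq_zero_iff F p i).2 (dvd_of_mul_right_dvd h),
          ← Units.val_pow_eq_pow_val,
          orderOf_dvd_iff_pow_eq_one.1 (hζ ▸ dvd_of_mul_left_dvd h)]
        simp
      rw [this]; exact one_mem _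
  have hdim : finrank F (K × F × F) = 2 * (k + 1) := by
    rw [Module.finrank_prod, Module.finrank_prod, Module.finrank_self,
      FiniteField.finrank_extension]
    omega
  obtain ⟨e⟩ := nonempty_isom_mulEquiv_sp hB hdim
  refine ⟨QuotientGroup.mk (e g), Nat.dvd_antisymm ?_ ?_⟩
  · rw [orderOf_dvd_iff_pow_eq_one, ← QuotientGroup.mk_pow, QuotientGroup.eq_one_iff, ← map_pow,
      ← map_center_eq e]
    exact Subgroup.mem_map_of_mem _ ((hcenter _).2 dvd_rfl)
  · rw [← hcenter]
    have h := pow_orderOf_eq_one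
      (QuotientGroup.mk (e g) : Cfsg.PSp (k + 1) F)
    rw [← QuotientGroup.mk_pow, QuotientGroup.eq_one_iff] at h
    generalize orderOf (QuotientGroup.mk (e g) : Cfsg.PSp (k + 1) F) = d at h ⊢
    rw [← map_pow, ← map_center_eq e, Subgroup.mem_map_equiv, MulEquiv.symm_apply_apply] at h
    exact h

end Cfsg.Agent.Lib.Spec48
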